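import Groth.Agent.Lib.EtPush14.SitePoint
import Groth.Agent.Lib.EtStalk.Integral
import Groth.Agent.Lib.QcohEt15.Colim.Site

/-! Direct image along an integral morphism of spaces is exact. -/

universe u

open CategoryTheory CategoryTheory.Limits AlgebraicGeometry Opposite

set_option linter.style.haveILetI false
set_option backward.isDefEq.respectTransparency false
set_option backward.isDefEq.respectTransparency.types false

namespace Groth.Agent.EtIntPush13

open AlgSp Groth.Agent.EtPush14 Groth.Agent.QcohEt15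

variable {S : Scheme.{u}}

section Chart

variable {X : Sp S} (E₁ : EtOver X)

theorem coverPreserving_chartF :
    CoverPreserving E₁.obj.left.left.smallEtaleTopology (etTop X) (chartF E₁) := by
  refine ⟨fun {V R} hR => ?_⟩
  rw [Colim.mem_etTop_iff]
  intro x
  have hR' : Sieve.ofArrows (fun i : Σ W, {g : W ⟶ V // R g} => i.1) (fun i => i.2.1) ∈
      E₁.obj.left.left.smallEtaleTopology V :=
    GrothendieckTopology.superset_covering _ (fun W g hg => Sieve.ofArrows_mk _ (fun i : Σ W, {g : W ⟶ V // R g} => i.2.1) ⟨W, g, hg⟩) hR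
  obtain ⟨i, hi⟩ := Set.mem_iUnion.1
    (Set.eq_univ_iff_forall.1 ((Scheme.ofArrows_mem_smallEtaleTopology_iff _).1 hR') x)
  exact ⟨_, (chartF E₁).map i.2.1, Sieve.image_mem_functorPushforward _ _ i.2.2, hi⟩

theorem compatiblePreserving_chartF : CompatiblePreserving.{u + 1} (etTop X) (chartF E₁) := by
  refine ⟨fun G {Z T x} hx {Y₁ Y₂ A} f₁ f₂ {g₁ g₂} hg₁ hg₂ he => ?_⟩
  let g : A ⟶ E₁ := f₁ ≫ toBase E₁ Y₁
  have h₂ : f₂ ≫ toBase E₁ Y₂ = g := by
    show _ = f₁ ≫ toBase E₁ Y₁
    rw [← map_toBase E₁ g₁, ← map_toBase E₁ g₂, ← Category.assoc, ← Category.assoc, he]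
  let e₁ := etHom E₁ g f₁ rfl
  let e₂ := etHom E₁ g f₂ h₂
  have hf₁ : toG E₁ g ≫ (chartF E₁).map e₁ = f₁ := map_etHom E₁ g f₁ rfl
  have hf₂ : toG E₁ g ≫ (chartF E₁).map e₂ = f₂ := map_etHom E₁ g f₂ h₂
  have heq : e₁ ≫ g₁ = e₂ ≫ g₂ := (chartF E₁).map_injective (by
    have h : ofG E₁ g ≫ f₁ ≫ (chartF E₁).map g₁ = ofG E₁ g ≫ f₂ ≫ (chartF E₁).map g₂ := congrArg _ he
    rw [← hf₁, ← hf₂] at h
    simp only [Category.assoc] at h
    rw [← Category.assoc, ← Category.assoc (ofG E₁ g), ofG_toG, Category.id_comp, Category.id_comp] at h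
    rw [Functor.map_comp, Functor.map_comp]
    exact h)
  have hx' := hx e₁ e₂ hg₁ hg₂ heq
  rw [← hf₁, ← hf₂, op_comp, op_comp, Functor.map_comp_apply, Functor.map_comp_apply]
  exact congrArg _ hx'

instance isContinuous_chartF :
    (chartF E₁).IsContinuous E₁.obj.left.left.smallEtaleTopology (etTop X) :=
  Functor.isContinuous_of_coverPreserving (compatiblePreserving_chartF E₁) (coverPreserving_chartF E₁)

/-- Restriction to the étale site of a chart. -/
noncomputable abbrev resChart : AbEt X ⥤ EtCoh.Ab E₁.obj.left.left :=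
  (chartF E₁).sheafPushforwardContinuous AddCommGrpCat.{u + 1} E₁.obj.left.left.smallEtaleTopology (etTop X)

theorem epi_resChart {F G : AbEt X} (π : F ⟶ G) [Epi π] : Epi ((resChart E₁).map π) := by
  haveI : Sheaf.IsLocallySurjective π := (Sheaf.isLocallySurjective_iff_epi' _ _).2 inferInstance
  refine (Sheaf.isLocallySurjective_iff_epi' _ _).1 ⟨fun {V} s => ?_⟩
  have h := Colim.mem_etTop_iff.1 (Presheaf.imageSieve_mem (etTop X) π.hom (U := op ((chartF E₁).obj V)) s)
  choose Y g hg hx using h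
  choose t ht using hg
  let φ : ∀ x, toEt E₁ (g x ≫ toBase E₁ V) ⟶ V := fun x => etHom E₁ _ (g x) rfl
  refine GrothendieckTopology.superset_covering _ ?_ ((Scheme.ofArrows_mem_smallEtaleTopology_iff φ).2
    (Set.eq_univ_iff_forall.2 fun x => Set.mem_iUnion.2 ⟨x, hx x⟩))
  rw [Sieve.ofArrows, Sieve.generate_le_iff]
  rintro _ _ ⟨x⟩
  refine ⟨F.obj.map (ofG E₁ (g x ≫ toBase E₁ V)).op (t x), ?_⟩
  show π.hom.app (op ((chartF E₁).obj _)) _ = G.obj.map ((chartF E₁).map (φ x)).op s
  rw [NatTrans.naturality_apply π.hom, ht x, ← Functor.map_comp_apply, ← op_comp]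
  have hk : ofG E₁ (g x ≫ toBase E₁ V) ≫ g x = (chartF E₁).map (φ x) :=
    (congrArg (ofG E₁ (g x ≫ toBase E₁ V) ≫ ·) (map_etHom E₁ (g x ≫ toBase E₁ V) (g x) rfl).symm).trans
      (by rw [← Category.assoc, ofG_toG, Category.id_comp])
  exact congrArg (fun m => (G.obj.map m.op) s) hk

end Chart

section Push

variable {X Y : Sp S} {f : X ⟶ Y} (hf : Representable f) (hint : IsIntegralMor f)

include hint in
theorem isIntegralHom_bcπ (E : EtOver Y) (hE : IsAffine E.obj.left.left) :
    IsIntegralHom (EtOver.bcπ hf E).left := by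
  obtain ⟨W, i, fst, hsq, -, hi⟩ := hint hE E.obj.hom
  let e := (EtOver.isPullback_bcObj hf E).isoIsPullback _ _ hsq
  have he : e.hom ≫ (yon S).map i = (yon S).map (EtOver.bcπ hf E) :=
    IsPullback.isoIsPullback_hom_snd _ _ _ _
  let e' := (yon S).preimageIso e
  have h : EtOver.bcπ hf E = e'.hom ≫ i := (yon S).map_injective (by
    rw [Functor.map_comp, show (yon S).map e'.hom = e.hom from (yon S).map_preimage e.hom, he])
  rw [h, Over.comp_left]
  haveI := hi
  haveI : IsIso e'.hom.left := (inferInstance : IsIso ((Over.forget S).map e'.hom))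
  infer_instance

set_option maxHeartbeats 600000 in
include hint in
theorem exists_local_lift {F G : AbEt X} (π : F ⟶ G) [Epi π] (E : EtOver Y) (hE : IsAffine E.obj.left.left)
    (s : G.obj.obj (op ((EtOver.bc hf).obj E))) (x : ↥E.obj.left.left) :
    ∃ (E' : EtOver Y) (g : E' ⟶ E), x ∈ Set.range g.hom.left.left ∧
      ∃ t : F.obj.obj (op ((EtOver.bc hf).obj E')),
        π.hom.app _ t = G.obj.map ((EtOver.bc hf).map g).op s := by
  let B := (EtOver.bc hf).obj E
  let k : B.obj.left.left ⟶ E.obj.left.left := (EtOver.bcπ hf E).left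
  haveI : IsIntegralHom k := isIntegralHom_bcπ hf hint E hE
  haveI := EtStalk.preservesFiniteColimits_push_integral k
  haveI := epi_resChart B π
  haveI : Epi ((EtCoh.push k).map ((resChart B).map π)) := inferInstance
  haveI : Sheaf.IsLocallySurjective ((EtCoh.push k).map ((resChart B).map π)) :=
    (Sheaf.isLocallySurjective_iff_epi' _ _).2 inferInstance
  let W₁ : E.obj.left.left.Etale := Scheme.Etale.mk (𝟙 E.obj.left.left)
  let s₁ : ((EtCoh.push k).obj ((resChart B).obj G)).obj.obj (op W₁) :=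
    G.obj.map (toBase B ((EtCoh.bc k).obj W₁)).op s
  have hs := Presheaf.imageSieve_mem E.obj.left.left.smallEtaleTopology
    ((EtCoh.push k).map ((resChart B).map π)).hom (U := op W₁) s₁
  have hs' : Sieve.ofArrows (fun i : Σ V, {g : V ⟶ W₁ // Presheaf.imageSieve
      ((EtCoh.push k).map ((resChart B).map π)).hom (U := W₁) s₁ g} => i.1) (fun i => i.2.1) ∈
      E.obj.left.left.smallEtaleTopology W₁ :=
    GrothendieckTopology.superset_covering _ (fun V g hg => Sieve.ofArrows_mk _ (fun i : Σ V, {g : V ⟶ W₁ //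
      Presheaf.imageSieve ((EtCoh.push k).map ((resChart B).map π)).hom (U := W₁) s₁ g} => i.2.1) ⟨V, g, hg⟩) hs
  obtain ⟨⟨V, g, t, ht⟩, hi⟩ := Set.mem_iUnion.1
    (Set.eq_univ_iff_forall.1 ((Scheme.ofArrows_mem_smallEtaleTopology_iff _).1 hs') x)
  let gE : (chartF E).obj V ⟶ E := toBase E V
  let b := (EtOver.bc hf).map gE
  have hb : b.hom.left.left ≫ k = (EtOver.bcπ hf ((chartF E).obj V)).left ≫ V.hom :=
    congrArg (fun m => m.left) (EtOver.bcMap_snd hf gE)
  let φ : toEt B b ⟶ (EtCoh.bc k).obj V :=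
    MorphismProperty.Over.homMk (pullback.lift (EtOver.bcπ hf ((chartF E).obj V)).left b.hom.left.left hb.symm)
      (pullback.lift_snd _ _ _)
  let m : (EtOver.bc hf).obj ((chartF E).obj V) ⟶ (chartF B).obj ((EtCoh.bc k).obj V) :=
    toG B b ≫ (chartF B).map φ
  have hm : m ≫ toBase B ((EtCoh.bc k).obj V) = b := by
    show (toG B b ≫ (chartF B).map φ) ≫ _ = b
    rw [Category.assoc, map_toBase, toG_toBase]
  refine ⟨(chartF E).obj V, gE, ?_, F.obj.map m.op t, ?_⟩
  · obtain ⟨y, hy⟩ := hi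
    refine ⟨y, ?_⟩
    have hw : g.left ≫ 𝟙 _ = V.hom := MorphismProperty.Over.w g
    rw [Category.comp_id] at hw
    rw [← hy]
    exact congrArg (fun q => q y) hw.symm
  · have ht' : π.hom.app (op ((chartF B).obj ((EtCoh.bc k).obj V))) t =
        G.obj.map ((chartF B).map ((EtCoh.bc k).map g)).op (G.obj.map (toBase B ((EtCoh.bc k).obj W₁)).op s) := ht
    rw [NatTrans.naturality_apply π.hom, ht', ← Functor.map_comp_apply, ← Functor.map_comp_apply, ← op_comp, ← op_comp]
    exact congrArg (fun q => (G.obj.map q.op) s)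
      ((Category.assoc _ _ _).trans ((congrArg (m ≫ ·) (map_toBase B ((EtCoh.bc k).map g))).trans hm))

include hint in
theorem epi_pushEt_map {F G : AbEt X} (π : F ⟶ G) [Epi π] :
    Epi ((pushEt hf AddCommGrpCat.{u + 1}).map π) := by
  refine (Sheaf.isLocallySurjective_iff_epi' _ _).1 ⟨fun {V} s => ?_⟩
  rw [Colim.mem_etTop_iff]
  intro x
  obtain ⟨O, y, hy⟩ := exists_openSub_mem V x
  let ι := AlgSpEt14.openSubι V O.1
  obtain ⟨E', g, ⟨z, hz⟩, t, ht⟩ := exists_local_lift hf hint π (AlgSpEt14.openSub V O.1) O.2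
    (G.obj.map ((EtOver.bc hf).map ι).op s) y
  refine ⟨E', g ≫ ι, ⟨t, ?_⟩, z, ?_⟩
  · show π.hom.app _ t = G.obj.map ((EtOver.bc hf).map (g ≫ ι)).op s
    rw [ht, Functor.map_comp, op_comp, Functor.map_comp_apply]
  · exact (congrArg ι.hom.left.left hz).trans hy

include hint in
theorem main : PreservesFiniteColimits (pushEt hf AddCommGrpCat.{u + 1}) ∧
    ∀ (p : ℕ), 0 < p → ∀ F : AbEt X, IsZero ((RpushEt hf p).obj F) := by
  let P := pushEt hf AddCommGrpCat.{u + 1}
  haveI : P.IsRightAdjoint := (pullPushAdjEt hf AddCommGrpCat.{u + 1}).isRightAdjoint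
  have : PreservesBinaryBiproducts P := preservesBinaryBiproducts_of_preservesBinaryProducts _
  have : P.Additive := Functor.additive_of_preservesBinaryBiproducts _
  have : P.PreservesEpimorphisms := ⟨fun π _ => epi_pushEt_map hf hint π⟩
  have := P.preservesHomology_of_preservesEpis_and_kernels
  have he := (Functor.exact_tfae P).out 2 3 rfl rfl
  refine ⟨(he.1 ‹P.PreservesHomology›).2, fun p hp F => ?_⟩
  obtain ⟨q, rfl⟩ := Nat.exists_eq_succ_of_ne_zero hp.ne'
  let R := injectiveResolution F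
  exact IsZero.of_iso (ShortComplex.exact_iff_isZero_homology _ |>.1 ((R.cocomplex_exactAt_succ q).map P))
    (R.isoRightDerivedObj P (q + 1))

end Push

end Groth.Agent.EtIntPush13
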